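import Cfsg.Agent.Spor.HSpN1.D0

set_option autoImplicit false
set_option maxRecDepth 100000000
set_option Elab.async false

namespace Cfsg.Agent.Spor.HSpN1

theorem ok0 : Net.okb 1 n0 = true := by decide +kernel

theorem ok1 : Net.okb 1 n1 = true := by decide +kernel

theorem ok2 : Net.okb 1 n2 = true := by decide +kernel

theorem ok3 : Net.okb 1 n3 = true := by decide +kernel

theorem ok4 : Net.okb 1 n4 = true := by decide +kernel

theorem rel0 : T.rel 1 [1, 1] 0 1 = true := by decide +kernel

theorem rel1 : T.rel 1 [2, 2] 0 1 = true := by decide +kernel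

theorem rel2 : T.rel 1 [3, 3] 0 1 = true := by decide +kernel

theorem rel3 : T.rel 1 [4, 4] 0 1 = true := by decide +kernel

theorem rel4 : T.rel 1 [5, 5] 0 1 = true := by decide +kernel

theorem rel5 : T.rel 1 [1, 3, 1, 3] 0 1 = true := by decide +kernel

theorem rel6 : T.rel 1 [1, 2, 1, 2, 1, 2, 1, 2] 0 1 = true := by decide +kernel

theorem rel7 : T.rel 1 [1, 2, 3, 2, 3, 2, 1, 2, 3, 2, 3, 2, 1, 3, 2, 3, 2, 3, 2, 1, 2, 3, 2, 3, 2] 0 1 = true := by decide +kernel

theorem rel8 : T.rel 1 [1, 2, 1, 2, 3, 2, 1, 2, 3, 2, 1, 2, 3, 2, 1, 2, 3, 2, 1, 2, 3] 0 1 = true := by decide +kernel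

theorem rel9 : T.rel 1 [3, 4, 3, 4] 0 1 = true := by decide +kernel

theorem rel10 : T.rel 1 [2, 4, 2, 4, 2, 4] 0 1 = true := by decide +kernel

theorem rel11 : T.rel 1 [4, 1, 2, 1, 2, 4, 2, 1, 2, 1] 0 1 = true := by decide +kernel

theorem rel12 : T.rel 1 [2, 3, 2, 3, 4, 2, 3, 4, 2, 3, 2, 4] 0 1 = true := by decide +kernel

theorem rel13 : T.rel 1 [4, 1, 4, 1, 4, 1, 4, 1, 4, 1] 0 1 = true := by decide +kernel

theorem rel14 : T.rel 1 [3, 5, 3, 5] 0 1 = true := by decide +kernel

theorem rel15 : T.rel 1 [1, 5, 1, 5] 0 1 = true := by decide +kernel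

theorem rel16 : T.rel 1 [2, 5, 2, 5] 0 1 = true := by decide +kernel

theorem rel17 : T.rel 1 [5, 4, 1, 2, 4, 1, 2, 5, 4, 2, 1, 4, 5, 1, 2, 4, 2, 1, 4, 2, 1] 0 1 = true := by decide +kernel

theorem rel18 : T.rel 1 [4, 5, 4, 5, 4, 5] 0 1 = true := by decide +kernel

theorem rel19 : T.rel 1 [4, 5, 3, 2, 4, 3, 2, 1] 0 1 = true := by decide +kernel

theorem hcov : T.treeCov (ones 1) L 1 = true := by decide +kernel

theorem hg : lall (fun z => band (memL L z) (band (sub (ones 1) (T.let z).cl) (T.closed (ones 1) z))) gs = true := by decide +kernel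

theorem hivk : ivOk (2 * 5) EX IV = true := by decide +kernel

theorem hrt : RT.ok (2 * 5) EX RL = true := by decide +kernel

theorem hdefs : defs F 107 = true := by decide +kernel

noncomputable def st0_l : List Nat := [nat_lit 0x100000100002403, nat_lit 0x140000200001c03, nat_lit 0x160000200002403, nat_lit 0x260000500004403, nat_lit 0x280000600003c03, nat_lit 0x2a0000600004403, nat_lit 0xb80001c000020000380006c05, nat_lit 0x380006c80007403, nat_lit 0x3a0006d80007c03, nat_lit 0x400000c00007403, nat_lit 0x440000d00007403, nat_lit 0x11800038000060000480007c05, nat_lit 0x500001100009403, nat_lit 0x520001200002800004000050000a8000dc07, nat_lit 0xef000298003c403, nat_lit 0x380001b8003c803, nat_lit 0x980002000011800144001e8000e50000e00001808, nat_lit 0x4d0007b80000003, nat_lit 0x7c00008002, nat_lit 0x7c00013c02, nat_lit 0x210000680000c00003000058003e800002000070000c8000f40a, nat_lit 0x7f00010802, nat_lit 0x560006f8000b403, nat_lit 0x56000140000ac001c2000d70000f80039807, nat_lit 0x102000828000e8001b6000d60006e00015407, nat_lit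 0x106000160000c403, nat_lit 0x14800048000270002a80041805, nat_lit 0x103000850003c403, nat_lit 0x820004340006c00014000098000d406, nat_lit 0x8700041002, nat_lit 0x8700039c02, nat_lit 0x3b000878000d003, nat_lit 0x320008a00036c03, nat_lit 0x8b0000c802, nat_lit 0xf10008600044000226000ec000230003a007, nat_lit 0x94001120001a00004800008000090000f80012408, nat_lit 0x8e00012802, nat_lit 0x2020001a0006c00005000026001180000400001c08, nat_lit 0x1000009080006403, nat_lit 0x9100006802, nat_lit 0x3e0009100038803, nat_lit 0x440009180010403, nat_lit 0x930000f802, nat_lit 0x11b000940003ac03, nat_lit 0x9600046c02, nat_lit 0x460009600042c03, nat_lit 0x530009680007003, nat_lit 0x9800011802, nat_lit 0x106000980003b403, nat_lit 0x250009980001803, nat_lit 0x480009b00042403, nat_lit 0x9b00041802, nat_lit 0xb0009c80000003, nat_lit 0x9d00012002, nat_lit 0x9d00047c02, nat_lit 0x9f00000802, nat_lit 0xfc0009f00003c03, nat_lit 0xa30003f002, nat_lit 0x5040003c00008000000005140000e000190009280001800288000010000480007c00280001430000f00002000288000010000380049015,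 nat_lit 0x140000a580006003, nat_lit 0x40000a50000c003, nat_lit 0x13c000a680007403, nat_lit 0x2e000a70004b803, nat_lit 0xa80000b002, nat_lit 0xa80004d402, nat_lit 0x156000a90004ac03, nat_lit 0x154000ac80006003, nat_lit 0x7000ad00052403, nat_lit 0x80057402, nat_lit 0x620002d000160002be000590002d80018c07, nat_lit 0x640002d00017403, nat_lit 0x6a0002e00017c03, nat_lit 0x6c0002e00018403, nat_lit 0x76000b08001dc03, nat_lit 0x84000b28001cc03, nat_lit 0x86000b38001d403, nat_lit 0x8a000370001cc03, nat_lit 0x90000380001cc03, nat_lit 0x248000e40005e000308001d405, nat_lit 0x980003b0001e403, nat_lit 0x980003b000188000b40005f000398005a807, nat_lit 0x82000428005d803, nat_lit 0x270000f000062000338001ec05, nat_lit 0x9e000ba0005e003, nat_lit 0xf20009f000be800208000d40005c0002c00057c08, nat_lit 0x63000bf80016403, nat_lit 0xbf0001dc02, nat_lit 0xbf0001e402, nat_lit 0x64000c080017403, nat_lit 0x66000c080017c03, nat_lit 0xc300058c02, nat_lit 0x7a000c48001c403, nat_lit 0x17b000c680023c03, nat_lit 0xc700027002, nat_lit 0x176000ba800610000b20005d0003680021c07,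 nat_lit 0x171000b5000210000d40018a000348001fc07, nat_lit 0x1280016c000c90005ac04, nat_lit 0x16f000cb00025003, nat_lit 0xcc0005bc02, nat_lit 0x173000cc00022803, nat_lit 0x88000ce00024803, nat_lit 0xce0005cc02, nat_lit 0xcf00022002, nat_lit 0x800003f80065003, nat_lit 0x194000b88005a8002ec00098000c1000164000be00164000418005f00b, nat_lit 0x12c00099000bb8005ac002e0001950003f0001a0000d600165000388002340c, nat_lit 0xd400025802, nat_lit 0x191000ba000260003540008c0004880065407, nat_lit 0x356001680004c8005e0002f8001a6000ca00069008, nat_lit 0x1a4000d700023003, nat_lit 0x170000d88001c003, nat_lit 0x8e000d800065403, nat_lit 0x19b000d98001bc03, nat_lit 0x1a2000d980017803, nat_lit 0xda0006b402, nat_lit 0x1a6000da00064403, nat_lit 0xda00023802, nat_lit 0xea001b7000dc80017c04, nat_lit 0xe000018000370001b6000d00006e406, nat_lit 0xde00069802, nat_lit 0x70000e180016003, nat_lit 0xe100017802, nat_lit 0x1bf000e380061403, nat_lit 0x134001ca000dd80072c04, nat_lit 0xe500071002, nat_lit 0xe50001f802, nat_lit 0xe600026802, nat_lit 0x1f0003a0001ce000e9000738003a200068000c50001a4003a0001ce000e9000738003a200068000c50001a4003a0001ce000e900073815,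 nat_lit 0x1d2000ea0001f003, nat_lit 0x3ac001ce000eb8001a004, nat_lit 0x760003a0001d7000ec80017005, nat_lit 0x720003b4001d8000eb00061005, nat_lit 0x2c80077402, nat_lit 0xa0000af80028403, nat_lit 0xae0005100029c03, nat_lit 0xb40005200028003, nat_lit 0xb800053000280003be001e40005a0002cc07, nat_lit 0xba00054000288003c2000a3000548002ec07, nat_lit 0xbc000540002ac03, nat_lit 0xc2000550002b403, nat_lit 0xc4000550002bc03, nat_lit 0x31800158000a2000528002cc05, nat_lit 0xc8000580002d403, nat_lit 0xcc0005900029000140001df000af80079007, nat_lit 0x16c000b5000fa00033004, nat_lit 0xfb0002d802, nat_lit 0xc200055000288003c0000a5000fc00033407, nat_lit 0x198000b20005a800794003be000a1000528002cc0019a001fa000610003040c, nat_lit 0x1fb000fe80030003, nat_lit 0xfe00033002, nat_lit 0x1ec000ff8002a803, nat_lit 0xff00030802, nat_lit 0xc60010180028803, nat_lit 0x1010002b002, nat_lit 0x1f00010380029403, nat_lit 0x1e7001058002c403, nat_lit 0x1050002c802, nat_lit 0x201001058002d403, nat_lit 0xca001060002e003, nat_lit 0x10800030002, nat_lit 0x10900032802,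 nat_lit 0xc80010b000788003dc000c4001020007a807, nat_lit 0x5f0002ec003d0000ba0005400082000152000bb000f48002e80a, nat_lit 0x10d0002f802, nat_lit 0x54000820001520021c00054000820001520021c000540008200a, nat_lit 0xbc0010f8002ac03, nat_lit 0x1100007ac02, nat_lit 0x2190011080085003, nat_lit 0x1120007cc02, nat_lit 0xc9001128002d003, nat_lit 0x1140002c002, nat_lit 0x898001680020e001150008380016a0021500111000850001680020e001150008380016a0021500111000850001680020e0011500083815, nat_lit 0xa50011600079403, nat_lit 0x508008bc02, nat_lit 0xce0011880033c03, nat_lit 0x3480019c001df0006780034c05, nat_lit 0xd40011980035403, nat_lit 0x46c000d40006700057c003be002310006780034c08, nat_lit 0x2380011b8008e403, nat_lit 0x11c00035002, nat_lit 0x4680023d0011980034c0046a0023b0006900034408, nat_lit 0x11f00034802, nat_lit 0x23e0011a8008fc03, nat_lit 0x11f0008f402, nat_lit 0x3400048000242000680009000048400241000688009140019c0015e000ef00033c00488002410006880090800482000d10012100091415, nat_lit 0x48c002420012380033804, nat_lit 0x6780092402]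
theorem st0 : band (steps F IV RT base st0_l 107) (Nat.beq (Nat.add 107 (llen st0_l)) 294) = true := by decide +kernel

theorem ep0a : T.treePath [] (Nat.shiftLeft 1 0) 1 = true := by decide +kernel

theorem ep0b : T.treePath [] (Nat.shiftLeft 1 0) 1 = true := by decide +kernel

theorem ep0c : band (lall (fun z => Nat.ble z 255) ([] ++ 1 :: [])) (concl F IV 294 0x57801 (encA ([] ++ 1 :: []) 0)) = true := by decide +kernel

theorem ep0d : band (Rule.ok (2 * 5) EX [] ⟨lapp [] [], [], 0, false⟩) (band (lall (memL L) []) (lall (memL L) [])) = true := by decide +kernel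

theorem cov1 : T.cover 1 [(Nat.shiftLeft 1 0)] = true := by decide +kernel

theorem tl1 : Nat.beq (T.let 1).tt 0 = true := by decide +kernel

theorem ep1a : T.treePath [] (Nat.shiftLeft 1 0) 1 = true := by decide +kernel

theorem ep1b : T.treePath [] (Nat.shiftLeft 1 0) 1 = true := by decide +kernel

theorem ep1c : band (lall (fun z => Nat.ble z 255) ([] ++ 2 :: [])) (concl F IV 294 0x77801 (encA ([] ++ 2 :: []) 0)) = true := by decide +kernel

theorem ep1d : band (Rule.ok (2 * 5) EX [] ⟨lapp [] [], [], 0, false⟩) (band (lall (memL L) []) (lall (memL L) [])) = true := by decide +kernel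

theorem cov2 : T.cover 2 [(Nat.shiftLeft 1 0)] = true := by decide +kernel

theorem tl2 : Nat.beq (T.let 2).tt 0 = true := by decide +kernel

theorem ep2a : T.treePath [] (Nat.shiftLeft 1 0) 1 = true := by decide +kernel

theorem ep2b : T.treePath [] (Nat.shiftLeft 1 0) 1 = true := by decide +kernel

theorem ep2c : band (lall (fun z => Nat.ble z 255) ([] ++ 3 :: [])) (concl F IV 294 0x8c001 (encA ([] ++ 3 :: []) 0)) = true := by decide +kernel

theorem ep2d : band (Rule.ok (2 * 5) EX [] ⟨lapp [] [], [], 0, false⟩) (band (lall (memL L) []) (lall (memL L) [])) = true := by decide +kernel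

theorem cov3 : T.cover 3 [(Nat.shiftLeft 1 0)] = true := by decide +kernel

theorem tl3 : Nat.beq (T.let 3).tt 0 = true := by decide +kernel

theorem ep3a : T.treePath [] (Nat.shiftLeft 1 0) 1 = true := by decide +kernel

theorem ep3b : T.treePath [] (Nat.shiftLeft 1 0) 1 = true := by decide +kernel

theorem ep3c : band (lall (fun z => Nat.ble z 255) ([] ++ 4 :: [])) (concl F IV 294 0x92801 (encA ([] ++ 4 :: []) 0)) = true := by decide +kernel

theorem ep3d : band (Rule.ok (2 * 5) EX [] ⟨lapp [] [], [], 0, false⟩) (band (lall (memL L) []) (lall (memL L) [])) = true := by decide +kernel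

theorem cov4 : T.cover 4 [(Nat.shiftLeft 1 0)] = true := by decide +kernel

theorem tl4 : Nat.beq (T.let 4).tt 0 = true := by decide +kernel

theorem rot5_1 : T.rot 5 [3, 2, 4, 3, 2, 1, 4] (sel (ones 1) ip5 1) = true := by decide +kernel

theorem rot5_1r : band (Rule.ok (2 * 5) EX RL ⟨5 :: [3, 2, 4, 3, 2, 1, 4], [6], 14, true⟩) (lall (memL L) [3, 2, 4, 3, 2, 1, 4]) = true := by decide +kernel

theorem cov5 : T.cover 5 [(sel (ones 1) ip5 1)] = true := by decide +kernel

theorem tl5 : Nat.beq (T.let 5).tt 0 = true := by decide +kernel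

end Cfsg.Agent.Spor.HSpN1
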