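import Cfsg.Agent.Spor.Cert
import Cfsg.Agent.Spor.HSpN1.C0

set_option autoImplicit false
set_option maxRecDepth 100000000
set_option Elab.async false
set_option linter.unusedSectionVars false

namespace Cfsg.Agent.Spor.HSpN1

theorem hT : T.Ok 1 := T.ok_of 1 (show AllP (fun n => Net.okb 1 n = true) [n0, n1, n2, n3, n4] from AllP.cons ok0 (AllP.cons ok1 (AllP.cons ok2 (AllP.cons ok3 (AllP.cons ok4 (AllP.nil))))))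

noncomputable def fP : ℕ → Equiv.Perm ℕ := T.fP gs

theorem hsq : ∀ j < 5, j < 5 → T.fP gs j * T.fP gs j = 1 :=
  Tab.sq (show AllP (fun z => evA T.τ [z, z] = 1) [1, 2, 3, 4, 5] from AllP.cons (hT.one rel0) (AllP.cons (hT.one rel1) (AllP.cons (hT.one rel2) (AllP.cons (hT.one rel3) (AllP.cons (hT.one rel4) (AllP.nil)))))) 5 rfl

theorem hiv : IvOk (2 * 5) (atm 5 (T.fP gs)) := ivOk_atm hsq

theorem pz1 : PZ T (atm 5 (T.fP gs)) EX 1 := PZ.of_atom (y := 2 * 0) (by decide +kernel) (atm_two_mul _ (by decide))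
theorem pz2 : PZ T (atm 5 (T.fP gs)) EX 2 := PZ.of_atom (y := 2 * 1) (by decide +kernel) (atm_two_mul _ (by decide))
theorem pz3 : PZ T (atm 5 (T.fP gs)) EX 3 := PZ.of_atom (y := 2 * 2) (by decide +kernel) (atm_two_mul _ (by decide))
theorem pz4 : PZ T (atm 5 (T.fP gs)) EX 4 := PZ.of_atom (y := 2 * 3) (by decide +kernel) (atm_two_mul _ (by decide))
theorem pz5 : PZ T (atm 5 (T.fP gs)) EX 5 := PZ.of_atom (y := 2 * 4) (by decide +kernel) (atm_two_mul _ (by decide))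
theorem hPZ : AllP (PZ T (atm 5 (T.fP gs)) EX) L :=
  show AllP (PZ T (atm 5 (T.fP gs)) EX) [1, 2, 3, 4, 5] from AllP.cons pz1 (AllP.cons pz2 (AllP.cons pz3 (AllP.cons pz4 (AllP.cons pz5 (AllP.nil)))))

theorem hrel : ∀ l ∈ RL, ev (atm 5 (T.fP gs)) l = 1 :=
  relAll_sound hiv (W := [[1, 3, 1, 3], [1, 2, 1, 2, 1, 2, 1, 2], [1, 2, 3, 2, 3, 2, 1, 2, 3, 2, 3, 2, 1, 3, 2, 3, 2, 3, 2, 1, 2, 3, 2, 3, 2], [1, 2, 1, 2, 3, 2, 1, 2, 3, 2, 1, 2, 3, 2, 1, 2, 3, 2, 1, 2, 3], [3, 4, 3, 4], [2, 4, 2, 4, 2, 4], [4, 1, 2, 1, 2, 4, 2, 1, 2, 1], [2, 3, 2, 3, 4, 2, 3, 4, 2, 3, 2, 4], [4, 1, 4, 1, 4, 1, 4, 1, 4, 1], [3, 5, 3, 5], [1, 5, 1, 5], [2, 5, 2, 5], [5, 4, 1, 2, 4, 1, 2, 5, 4, 2, 1, 4, 5, 1, 2, 4, 2, 1, 4, 2, 1], [4, 5, 4, 5, 4, 5], [4, 5, 3, 2, 4, 3, 2, 1]]) (rules := [⟨[1, 3, 1, 3], [], 0, true⟩, ⟨[1, 2, 1, 2, 1, 2, 1, 2], [], 1,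 true⟩, ⟨[1, 2, 3, 2, 3, 2, 1, 2, 3, 2, 3, 2, 1, 3, 2, 3, 2, 3, 2, 1, 2, 3, 2, 3, 2], [], 2, true⟩, ⟨[1, 2, 1, 2, 3, 2, 1, 2, 3, 2, 1, 2, 3, 2, 1, 2, 3, 2, 1, 2, 3], [], 3, true⟩, ⟨[3, 4, 3, 4], [], 4, true⟩, ⟨[2, 4, 2, 4, 2, 4], [], 5, true⟩, ⟨[4, 1, 2, 1, 2, 4, 2, 1, 2, 1], [], 6, true⟩, ⟨[2, 3, 2, 3, 4, 2, 3, 4, 2, 3, 2, 4], [], 7, true⟩, ⟨[4, 1, 4, 1, 4, 1, 4, 1, 4, 1], [], 8, true⟩, ⟨[3, 5, 3, 5], [], 9, true⟩, ⟨[1, 5, 1, 5], [], 10, true⟩, ⟨[2, 5, 2, 5], [], 11, true⟩, ⟨[5, 4, 1, 2, 4, 1, 2, 5, 4, 2, 1, 4, 5, 1, 2, 4, 2, 1, 4, 2, 1], [], 12, true⟩, ⟨[4, 5, 4, 5, 4, 5], [], 13, true⟩, ⟨[4, 5, 3, 2, 4, 3, 2, 1], [], 14, true⟩]) hPZ (AllP.cons (hT.one rel5) (AllP.cons (hT.one rel6) (AllP.cons (hT.one rel7) (AllP.cons (hT.one rel8) (AllP.cons (hT.one rel9) (AllP.cons (hT.one rel10) (AllP.cons (hT.one rel11) (AllP.cons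 (hT.one rel12) (AllP.cons (hT.one rel13) (AllP.cons (hT.one rel14) (AllP.cons (hT.one rel15) (AllP.cons (hT.one rel16) (AllP.cons (hT.one rel17) (AllP.cons (hT.one rel18) (AllP.cons (hT.one rel19) (AllP.nil)))))))))))))))) (by decide +kernel)

theorem hst : StepsOk F IV RT base 107 294 := (steps_sound' st0)

section
variable {G : Type} [Group G] {a : ℕ → G} (hi : IvOk (2 * 5) a) (hR : ∀ r ∈ RL, ev a r = 1)
  {H : Subgroup G} (hb : ∀ z ∈ base, letV a EX z ∈ H)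
include hi hR hb

theorem let1 : LetOk H (letV a EX) T L 1 :=
  LetOk.of' hT tl1 cov1 (AllP.cons (Just.epi hT hi ep0a ep0b (seq_mem hi hR rfl hivk hrt H hb hdefs hst ep0c) ep0d) (AllP.nil))
theorem let2 : LetOk H (letV a EX) T L 2 :=
  LetOk.of' hT tl2 cov2 (AllP.cons (Just.epi hT hi ep1a ep1b (seq_mem hi hR rfl hivk hrt H hb hdefs hst ep1c) ep1d) (AllP.nil))
theorem let3 : LetOk H (letV a EX) T L 3 :=
  LetOk.of' hT tl3 cov3 (AllP.cons (Just.epi hT hi ep2a ep2b (seq_mem hi hR rfl hivk hrt H hb hdefs hst ep2c) ep2d) (AllP.nil))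
theorem let4 : LetOk H (letV a EX) T L 4 :=
  LetOk.of' hT tl4 cov4 (AllP.cons (Just.epi hT hi ep3a ep3b (seq_mem hi hR rfl hivk hrt H hb hdefs hst ep3c) ep3d) (AllP.nil))
theorem let5 : LetOk H (letV a EX) T L 5 :=
  LetOk.of' hT tl5 cov5 (AllP.cons (Just.rot hT hi hR rot5_1 rot5_1r) (AllP.nil))
theorem hlet : AllP (LetOk H (letV a EX) T L) L :=
  show AllP (LetOk H (letV a EX) T L) [1, 2, 3, 4, 5] from AllP.cons (let1 hi hR hb) (AllP.cons (let2 hi hR hb) (AllP.cons (let3 hi hR hb) (AllP.cons (let4 hi hR hb) (AllP.cons (let5 hi hR hb) (AllP.nil)))))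
end

theorem cert : Cert 5 5 RL BW fP 1 :=
  Cert.of hT ⟨hsq, hrel⟩ hPZ (fun _ _ _ hi hR _ hb => hlet hi hR hb) hcov hg (by decide +kernel)

end Cfsg.Agent.Spor.HSpN1
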